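import Cfsg.Agent.R2.T1.T2p.Base
import Cfsg.Agent.R2.T1.T1p.Main

/-!
# T1 (S5771, p = 2): additive translates with equal values of the moment map, `n` arbitrary (helper25)

* `phi_eq` : if the combination of `line_F` vanishes at `u` then the values of the moment map at the translates are equal;
* `final` : the contradiction.
-/

set_option autoImplicit false
set_option maxRecDepth 100000

namespace Cfsg.Agent.R2.T1.T2p

open Cfsg Cfsg.Lie Module Equiv Equiv.Perm
open Cfsg.Agent.H943.E7V.Block (D1 rho)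
open Cfsg.Agent.H952.F4 (ev es MaxAlt)
open Cfsg.Agent.R2.T1 Cfsg.Agent.R2.T1.Mu2 Cfsg.Agent.R2.PX
open Cfsg.Agent.R2.T1.T1p (Pf Pf_eq Pf_comm Pf_add_right Pf_smul_right)

universe u
variable {F : Type u} [Field F] {n : ℕ}

section polar
variable {ψ : ↥(alternatingGroup (Fin n)) →* Gh F} {o p : Fin n} {u : D1 → F}

/-- all values of the moment map on the translates are equal -/
theorem Mu_W (hn : 6 ≤ n) (hop : o ≠ p) (hu : u ∈ US ψ o p) {q : Fin n} (hoq : o ≠ q) (hpq : p ≠ q)
    (heq : Mu F (W ψ o p u o p) = Mu F (W ψ o p u p q)) {i j : Fin n} (hij : i ≠ j) :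
    Mu F (W ψ o p u i j) = Mu F u := by
  have step : ∀ a b c : Fin n, a ≠ b → b ≠ c → a ≠ c → Mu F (W ψ o p u a b) = Mu F (W ψ o p u b c) := by
    intro a b c hab hbc hac
    obtain ⟨g, g5, g6, g7⟩ := exists_even3 (by omega) hop hpq hoq hab hbc hac
    have e1 : W ψ o p u a b = V F (ψ g) (W ψ o p u o p) := by rw [W_act (by omega) hop hu g hop, g5, g6]
    have e2 : W ψ o p u b c = V F (ψ g) (W ψ o p u p q) := by rw [W_act (by omega) hop hu g hpq, g6, g7]
    rw [e1, e2, Mu_V', Mu_V', heq]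
  obtain ⟨c, d, c1, c2, c3, c4, d1, d2, d3, d4, hcd⟩ := two_out4 hn o p i j
  have h1 := step o p c hop c2.symm c1.symm
  have h2 := step p c d c2.symm hcd d2.symm
  have h3 := step c d i hcd d3 c3
  have h4 := step d i j d3 hij d4
  rw [← h4, ← h3, ← h2, ← h1, W_self hu]

/-- the polar form vanishes on the translates -/
theorem Pf_W (h2 : (2 : F) = 0)
    (hsym : ∀ i j : Fin n, i ≠ j → W ψ o p u i j = W ψ o p u j i)
    (hT : ∀ i j k : Fin n, i ≠ j → j ≠ k → i ≠ k → W ψ o p u i j + W ψ o p u j k + W ψ o p u k i = 0)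
    (hz : ∀ i j : Fin n, i ≠ j → Mu F (W ψ o p u i j) = 0) {i j k l : Fin n} (hij : i ≠ j) (hkl : k ≠ l)
    (z : chevE7.Idx → F) : Pf (W ψ o p u i j) (W ψ o p u k l) z = 0 := by
  have hneg : ∀ v : D1 → F, -v = v := fun v => neg_eq_of_add_eq_zero_left (add_self_zero h2 v)
  have hself : ∀ i j : Fin n, i ≠ j → Pf (W ψ o p u i j) (W ψ o p u i j) z = 0 := by
    intro i j h
    rw [Pf_eq, add_self_zero h2, Mu_zero, hz i j h, LinearMap.zero_apply]
    ring
  have hadd : ∀ i j k : Fin n, i ≠ j → j ≠ k → i ≠ k → W ψ o p u i j + W ψ o p u j k = W ψ o p u i k := by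
    intro i j k h1 h3 h4
    have h5 := hT i j k h1 h3 h4
    rw [hsym i k h4, ← hneg (W ψ o p u k i)]
    exact eq_neg_of_add_eq_zero_left h5
  have hshare : ∀ i j k : Fin n, i ≠ j → j ≠ k → i ≠ k → Pf (W ψ o p u i j) (W ψ o p u j k) z = 0 := by
    intro i j k h1 h3 h4
    rw [Pf_eq, hadd i j k h1 h3 h4, hz i k h4, hz i j h1, hz j k h3, LinearMap.zero_apply]
    ring
  by_cases hki : k = i
  · subst hki
    by_cases hlj : l = j
    · subst hlj; exact hself k l hij
    · rw [hsym k j hij]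
      exact hshare j k l hij.symm hkl (Ne.symm hlj)
  by_cases hkj : k = j
  · subst hkj
    by_cases hli : l = i
    · subst hli; rw [hsym k l hkl]; exact hself l k hij
    · exact hshare i k l hij hkl (Ne.symm hli)
  by_cases hli : l = i
  · subst hli
    rw [hsym k l hkl, hsym l j hij]
    exact hshare j l k hij.symm (Ne.symm hki) (Ne.symm hkj)
  by_cases hlj : l = j
  · subst hlj
    rw [hsym k l hkl]
    exact hshare i l k hij (Ne.symm hkj) (Ne.symm hki)
  rw [← hadd k j l hkj (Ne.symm hlj) hkl, Pf_add_right, hshare i j l hij (Ne.symm hlj) (Ne.symm hli), add_zero,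
    hsym k j hkj]
  exact hshare i j k hij (Ne.symm hkj) (Ne.symm hki)

end polar

/-! ### the main argument -/

section main
variable {H : Subgroup ↥(chevE7.group F)} {φ : ↥(alternatingGroup (Fin n)) →* ↥(chevE7.group F)}
  {ψ : ↥(alternatingGroup (Fin n)) →* Gh F} {o p : Fin n}

/-- the final contradiction from a vector with equal values of the moment map -/
theorem final [Finite F] (h2 : (2 : F) = 0) (hn : 7 ≤ n) (hM : MaxAlt H n φ) (hψ : Lift φ ψ) (hop : o ≠ p)
    (hcard : 4 * Nat.card ↥H < Nat.card F ^ 76)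
    (hts : ∀ S : Submodule F (D1 → F), Stab (V F) H S → S ≠ ⊥ → (∀ x ∈ S, Sing x) → False)
    {u : D1 → F} (hu : u ∈ US ψ o p) {q : Fin n} (hoq : o ≠ q) (hpq : p ≠ q)
    (hT0 : W ψ o p u o p + W ψ o p u p q + W ψ o p u q o = 0)
    (hu0 : u ≠ 0) (hH : ∀ g : Gh F, ad F g ∈ H → ∃ π, V F g u = V F (ψ π) u)
    (heq : Mu F (W ψ o p u o p) = Mu F (W ψ o p u p q)) : False := by
  have hT : ∀ i j k : Fin n, i ≠ j → j ≠ k → i ≠ k → W ψ o p u i j + W ψ o p u j k + W ψ o p u k i = 0 :=
    fun i j k h1 h3 h4 => tri (by omega) hop hu hoq hpq hT0 h1 h3 h4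
  have hsym : ∀ i j : Fin n, i ≠ j → W ψ o p u i j = W ψ o p u j i := fun i j h => W_symm h2 (by omega) hT h
  have hne67 : ∀ π : ↥(alternatingGroup (Fin n)), (π : Perm (Fin n)) o ≠ (π : Perm (Fin n)) p := fun π h =>
    hop ((π : Perm (Fin n)).injective h)
  have hVW : ∀ π : ↥(alternatingGroup (Fin n)), V F (ψ π) u = W ψ o p u ((π : Perm (Fin n)) o) ((π : Perm (Fin n)) p) :=
    fun π => W_eq hu rfl rfl
  have hMu0 : Mu F u = 0 := by
    apply func_zero hM.coatom hcard
    intro g hg
    obtain ⟨π, hπ⟩ := hH g hg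
    rw [hπ, hVW, Mu_W (by omega) hop hu hoq hpq heq (hne67 π)]
  have hz : ∀ i j : Fin n, i ≠ j → Mu F (W ψ o p u i j) = 0 := fun i j hij => by
    rw [Mu_W (by omega) hop hu hoq hpq heq hij, hMu0]
  set S : Submodule F (D1 → F) := Submodule.span F (Set.range fun π : ↥(alternatingGroup (Fin n)) => V F (ψ π) u) with hS
  have hmem : ∀ π : ↥(alternatingGroup (Fin n)), V F (ψ π) u ∈ S := fun π => Submodule.subset_span ⟨π, rfl⟩
  have hP1 : ∀ (π : ↥(alternatingGroup (Fin n))) (y : D1 → F), y ∈ S → ∀ z, Pf (V F (ψ π) u) y z = 0 := by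
    intro π y hy z
    rw [hS] at hy
    induction hy using Submodule.span_induction with
    | mem y hy =>
      obtain ⟨π', rfl⟩ := hy
      show Pf (V F (ψ π) u) (V F (ψ π') u) z = 0
      rw [hVW, hVW]
      exact Pf_W h2 hsym hT hz (hne67 π) (hne67 π') z
    | zero => unfold Pf; rw [map_zero, LinearMap.zero_apply]
    | add a b _ _ ha hb => rw [Pf_add_right, ha, hb, add_zero]
    | smul c a _ ha => rw [Pf_smul_right, ha, mul_zero]
  have hP : ∀ x ∈ S, ∀ y ∈ S, ∀ z, Pf x y z = 0 := by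
    intro x hx y hy z
    rw [hS] at hx
    induction hx using Submodule.span_induction with
    | mem x hx =>
      obtain ⟨π, rfl⟩ := hx
      exact hP1 π y hy z
    | zero => rw [Pf_comm]; unfold Pf; rw [map_zero, LinearMap.zero_apply]
    | add a b _ _ ha hb => rw [Pf_comm, Pf_add_right, Pf_comm y a, Pf_comm y b, ha, hb, add_zero]
    | smul c a _ ha => rw [Pf_comm, Pf_smul_right, Pf_comm y a, ha, mul_zero]
  have hsing : ∀ x ∈ S, Sing x := by
    intro x hx
    rw [hS] at hx
    induction hx using Submodule.span_induction with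
    | mem x hx =>
      obtain ⟨π, rfl⟩ := hx
      show Mu F (V F (ψ π) u) = 0
      rw [hVW]
      exact hz _ _ (hne67 π)
    | zero => exact Mu_zero
    | add a b ha hb ha' hb' =>
      refine LinearMap.ext fun z => ?_
      have h3 := hP a ha b hb z
      rw [Pf_eq, ha', hb', LinearMap.zero_apply, sub_zero, sub_zero] at h3
      exact h3
    | smul c a _ ha => exact ha.smul c
  refine hts S ?_ ?_ hsing
  · intro g hg w hw
    obtain ⟨σ, hσ⟩ := perm_lift h2 hn hM hψ hg
    obtain ⟨π, hπ⟩ := hH g hg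
    rw [hS] at hw
    induction hw using Submodule.span_induction with
    | mem x hx =>
      obtain ⟨a, rfl⟩ := hx
      have hconj : σ * (a : Perm (Fin n)) * σ⁻¹ ∈ alternatingGroup (Fin n) := by
        rw [mem_alternatingGroup, Perm.sign_mul, Perm.sign_mul, mem_alternatingGroup.1 a.2, mul_one, Perm.sign_inv,
          Int.units_mul_self]
      have h3 := hσ a ⟨_, hconj⟩ rfl
      have h4 : V F g (V F (ψ a) u) = V F (ψ (⟨_, hconj⟩ * π)) u := by
        rw [map_mul, V_mul, ← hπ, ← V_mul, ← V_mul, ← h3]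
        congr 2
        group
      show V F g (V F (ψ a) u) ∈ S
      rw [h4]
      exact hmem _
    | zero => rw [map_zero]; exact zero_mem _
    | add a b _ _ ha hb => rw [map_add]; exact add_mem ha hb
    | smul c a _ ha => rw [map_smul]; exact S.smul_mem c ha
  · intro h
    have h3 := hmem 1
    rw [h, map_one, V_one, Submodule.mem_bot] at h3
    exact hu0 h3

/-- the values of the moment map are equal if the combinations vanish -/
theorem phi_eq {K : Type u} [Field K] (h2K : (2 : K) = 0) (f : F →+* K) {ω : K} (hω : ω ^ 2 + ω + 1 = 0) {m0 m1 m2 : F}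
    (e1 : f m0 + ω * f m1 + ω ^ 2 * f m2 = 0) (e2 : f m0 + ω * f m2 + ω ^ 2 * f m1 = 0) : m0 = m1 := by
  have hω1 : ω - ω ^ 2 ≠ 0 := by
    intro h
    have h4 : ω * (1 - ω) = 0 := by linear_combination h
    rcases mul_eq_zero.1 h4 with h5 | h5
    · rw [h5] at hω
      norm_num at hω
    · have h6 : ω = 1 := (sub_eq_zero.1 h5).symm
      rw [h6] at hω
      have h7 : (1 : K) = 0 := by linear_combination hω - h2K
      exact one_ne_zero h7
  have e3 : (ω - ω ^ 2) * (f m1 - f m2) = 0 := by linear_combination e1 - e2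
  have e4 := sub_eq_zero.1 ((mul_eq_zero.1 e3).resolve_left hω1)
  have e5 : f m0 = f m1 := by
    rw [← e4] at e1
    linear_combination e1 - (f m1) * hω
  exact f.injective e5

end main

end Cfsg.Agent.R2.T1.T2p
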