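import Cfsg.Agent.R2.T1.T2p.Per

/-!
# T1 (S5771, p = 2): generation of alternating groups by 3-cycles with two common points (helper25)
-/

set_option autoImplicit false

namespace Cfsg.Agent.R2.T1.T2p

open Equiv Equiv.Perm

variable {n : ℕ}

/-- the alternating group of a set of points is generated by the 3-cycles which contain two given points -/
theorem gen_alt (S : Subgroup ↥(alternatingGroup (Fin n))) (Q : Fin n → Prop) {p0 p1 : Fin n} (h01 : p0 ≠ p1)
    (hp0 : Q p0) (h : ∀ k, Q k → k ≠ p0 → ∀ a : ↥(alternatingGroup (Fin n)), (a : Perm (Fin n)) = swap p0 p1 * swap p0 k → a ∈ S)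
    (a : ↥(alternatingGroup (Fin n))) (ha : ∀ i, ¬ Q i → (a : Perm (Fin n)) i = i) : a ∈ S := by
  classical
  let S' : Subgroup (Perm (Fin n)) := S.map (alternatingGroup (Fin n)).subtype
  have hS' : ∀ σ ∈ S', sign σ = 1 := by
    rintro _ ⟨b, -, rfl⟩
    exact mem_alternatingGroup.1 b.2
  let R : Perm (Fin n) → Prop := fun σ => σ ∈ S' ∨ swap p0 p1 * σ ∈ S'
  have hsk : ∀ k, Q k → k ≠ p0 → swap p0 p1 * swap p0 k ∈ S' := by
    intro k hk hk0
    have hev : swap p0 p1 * swap p0 k ∈ alternatingGroup (Fin n) := by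
      rw [mem_alternatingGroup, Perm.sign_mul, sign_swap h01, sign_swap hk0.symm]
      decide
    exact ⟨⟨_, hev⟩, h k hk hk0 ⟨_, hev⟩ rfl, rfl⟩
  have hstar : ∀ k, Q k → k ≠ p0 → ∀ σ, R σ → R (swap p0 k * σ) := by
    intro k hk hk0 σ hσ
    rcases hσ with hσ | hσ
    · right
      rw [← mul_assoc]
      exact mul_mem (hsk k hk hk0) hσ
    · left
      have h1 : swap p0 k * σ = (swap p0 p1 * swap p0 k)⁻¹ * (swap p0 p1 * σ) := by
        rw [mul_inv_rev, swap_inv, swap_inv, mul_assoc, ← mul_assoc (swap p0 p1) (swap p0 p1), swap_mul_self, one_mul]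
      rw [h1]
      exact mul_mem (inv_mem (hsk k hk hk0)) hσ
  have hswap : ∀ x y, Q x → Q y → x ≠ y → ∀ σ, R σ → R (swap x y * σ) := by
    intro x y hx hy hxy σ hσ
    by_cases hx0 : x = p0
    · subst hx0
      exact hstar y hy hxy.symm σ hσ
    by_cases hy0 : y = p0
    · subst hy0
      rw [swap_comm]
      exact hstar x hx hxy σ hσ
    have h1 : swap x y = swap p0 x * (swap p0 y * swap p0 x) := by
      have h2 := Equiv.mul_swap_eq_swap_mul (swap p0 x) p0 y
      rw [swap_apply_left, swap_apply_of_ne_of_ne hy0 hxy.symm] at h2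
      rw [← mul_assoc, h2, mul_assoc, swap_mul_self, mul_one]
    rw [h1, mul_assoc, mul_assoc]
    exact hstar x hx hx0 _ (hstar y hy hy0 _ (hstar x hx hx0 _ hσ))
  have hQ : ∀ x : Fin n, Q x ↔ Q ((a : Perm (Fin n)) x) := by
    intro x
    constructor
    · intro hx
      by_contra hcon
      have h1 := ha _ hcon
      have h2 := (a : Perm (Fin n)).injective h1
      rw [h2] at hcon
      exact hcon hx
    · intro hx
      by_contra hcon
      rw [ha x hcon] at hx
      exact hcon hx
  have hall : ∀ τ : Perm {i // Q i}, R (Perm.ofSubtype τ) := by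
    intro τ
    induction τ using swap_induction_on with
    | one => left; rw [map_one]; exact one_mem _
    | swap_mul f x y hxy ih =>
      rw [map_mul, ofSubtype_swap_eq]
      exact hswap x y x.2 y.2 (fun h => hxy (Subtype.ext h)) _ ih
  have h1 : Perm.ofSubtype ((a : Perm (Fin n)).subtypePerm (p := Q) fun x => (hQ x).symm) = (a : Perm (Fin n)) :=
    Perm.ofSubtype_subtypePerm _ fun x hx => by
      by_contra hcon
      exact hx (ha x hcon)
  have h2 := hall ((a : Perm (Fin n)).subtypePerm (p := Q) fun x => (hQ x).symm)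
  rw [h1] at h2
  rcases h2 with h2 | h2
  · obtain ⟨b, hb, hba⟩ := h2
    have h3 : b = a := Subtype.ext hba
    rwa [← h3]
  · have h3 := hS' _ h2
    rw [Perm.sign_mul, sign_swap h01, mem_alternatingGroup.1 a.2] at h3
    exact absurd h3 (by decide)

end Cfsg.Agent.R2.T1.T2p
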