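import Cfsg.Agent.R2.T1.Odd.Typ

/-!
# T1 (S5771, p = 2): certificates in permutation modules over the field with two elements (helper25)

* `sumM g a` : the sum of the entries of the list `g` at the binary digits of `a`;
* `stp`, `stps`, `sms` : the action of a generator, a word, a list of words on the masks;
* `Dat`, `Dat.chk` : generators, a stabilizer, representatives of the cosets, the table of the action;
* `Op` : the sum over a list of words; `eval` : `Op ws (sumM g a) = sumM g (sms tab ws a)`.
-/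

set_option autoImplicit false
set_option maxRecDepth 100000

namespace Cfsg.Agent.R2.T1.Msk

open Module Equiv Equiv.Perm
open Cfsg.Agent.R2.T1.Odd

section mask
variable {W : Type*} [AddCommGroup W]

/-- the sum over a mask -/
def sumM : List W → ℕ → W
  | [], _ => 0
  | w :: l, a => (if a % 2 = 1 then w else 0) + sumM l (a / 2)

theorem sumM_zero (l : List W) : sumM l 0 = 0 := by
  induction l with
  | nil => rfl
  | cons w l ih =>
    show (if 0 % 2 = 1 then w else 0) + sumM l (0 / 2) = 0
    rw [Nat.zero_mod, Nat.zero_div, ih, if_neg (by norm_num), add_zero]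

theorem sumM_pow (l : List W) (j : ℕ) : sumM l (2 ^ j) = l.getD j 0 := by
  induction l generalizing j with
  | nil => rfl
  | cons w l ih =>
    show (if 2 ^ j % 2 = 1 then w else 0) + sumM l (2 ^ j / 2) = _
    cases j with
    | zero =>
      rw [pow_zero, if_pos (by norm_num), show 1 / 2 = 0 from rfl, sumM_zero, add_zero]
      rfl
    | succ j =>
      have h1 : 2 ^ (j + 1) % 2 = 0 := by omega
      have h2 : 2 ^ (j + 1) / 2 = 2 ^ j := by omega
      rw [h1, h2, if_neg (by norm_num), zero_add, ih]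
      rfl

theorem sumM_xor (h2 : ∀ w : W, w + w = 0) (l : List W) (a b : ℕ) : sumM l (a ^^^ b) = sumM l a + sumM l b := by
  induction l generalizing a b with
  | nil => exact (add_zero (0 : W)).symm
  | cons w l ih =>
    show (if (a ^^^ b) % 2 = 1 then w else 0) + sumM l ((a ^^^ b) / 2) =
      ((if a % 2 = 1 then w else 0) + sumM l (a / 2)) + ((if b % 2 = 1 then w else 0) + sumM l (b / 2))
    have e1 : (a ^^^ b) / 2 = (a / 2) ^^^ (b / 2) := by
      have := Nat.xor_div_two_pow (a := a) (b := b) (n := 1)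
      simpa using this
    have e2 : (a ^^^ b) % 2 = (a + b) % 2 := Nat.xor_mod_two_eq
    rw [e1, ih, e2]
    have ha : a % 2 = 0 ∨ a % 2 = 1 := by omega
    have hb : b % 2 = 0 ∨ b % 2 = 1 := by omega
    rcases ha with ha | ha <;> rcases hb with hb | hb
    · rw [if_neg (by omega), if_neg (by omega), if_neg (by omega)]
      abel
    · rw [if_pos (by omega), if_neg (by omega), if_pos (by omega)]
      abel
    · rw [if_pos (by omega), if_pos (by omega), if_neg (by omega)]
      abel
    · rw [if_neg (by omega), if_pos (by omega), if_pos (by omega)]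
      have := h2 w
      have h3 : (w + sumM l (a / 2)) + (w + sumM l (b / 2)) = (w + w) + (sumM l (a / 2) + sumM l (b / 2)) := by abel
      rw [h3, this]

/-- the action of a table on masks -/
def stp : List (ℕ × ℕ) → ℕ → ℕ
  | [], _ => 0
  | x :: t, a => bif Nat.beq (a % 2) 1 then Nat.xor (2 ^ x.1) (stp t (a / 2)) else stp t (a / 2)

/-- words -/
def stps (T : List (List (ℕ × ℕ))) : List ℕ → ℕ → ℕ
  | [], a => a
  | i :: w, a => stp (T.getD i []) (stps T w a)

/-- sums over words -/
def sms (T : List (List (ℕ × ℕ))) : List (List ℕ) → ℕ → ℕ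
  | [], _ => 0
  | w :: ws, a => Nat.xor (stps T w a) (sms T ws a)

theorem stp_spec (h2 : ∀ w : W, w + w = 0) (g : List W) (S : W →+ W) : ∀ (l : List W) (t : List (ℕ × ℕ)),
    l.length = t.length → (∀ e ∈ l.zip t, S e.1 = g.getD e.2.1 0) → ∀ a, S (sumM l a) = sumM g (stp t a) := by
  intro l
  induction l with
  | nil =>
    intro t h _ a
    have h1 : t = [] := List.length_eq_zero_iff.1 h.symm
    rw [h1]
    show S 0 = sumM g 0
    rw [map_zero, sumM_zero]
  | cons w l ih =>
    intro t h h1 a
    cases t with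
    | nil => simp at h
    | cons x t =>
      have h3 := h1 (w, x) (by simp)
      have h4 := ih t (by simpa using h) (fun e he => h1 e (by simp [he])) (a / 2)
      show S ((if a % 2 = 1 then w else 0) + sumM l (a / 2)) =
        sumM g (bif Nat.beq (a % 2) 1 then Nat.xor (2 ^ x.1) (stp t (a / 2)) else stp t (a / 2))
      rw [map_add, h4]
      by_cases ha : a % 2 = 1
      · rw [if_pos ha, ha, h3, show Nat.beq 1 1 = true from rfl, cond_true]
        show _ = sumM g (2 ^ x.1 ^^^ stp t (a / 2))
        rw [sumM_xor h2, sumM_pow]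
      · have hb : Nat.beq (a % 2) 1 = false := by
          rw [← Bool.not_eq_true, Nat.beq_eq]; exact ha
        rw [if_neg ha, map_zero, zero_add, hb, cond_false]

end mask

/-- the data -/
structure Dat where
  gens : List (List (ℕ × ℕ))
  zt : List (ℕ × ℕ)
  reps : List (List (ℕ × ℕ))
  tab : List (List (ℕ × ℕ))

/-- the check of the data -/
def Dat.chk (m : ℕ) (D : Dat) : Bool :=
  D.gens.all (vl m) && vl m D.zt && D.reps.all (vl m) && Nat.beq D.gens.length D.tab.length &&
    ((D.gens.zip D.tab).all fun x => Nat.beq D.reps.length x.2.length &&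
      (D.reps.zip x.2).all fun y => Nat.blt y.2.1 D.reps.length &&
        cd m (x.1 ++ y.1) == cd m (D.reps.getD y.2.1 [] ++ pwl D.zt y.2.2))

section act
variable {n m : ℕ} [NeZero n] {F : Type*} [Field F] {W : Type*} [AddCommGroup W] [Module F W]
  (ρ : Representation F ↥(alternatingGroup (Fin n)) W)

/-- the translates -/
noncomputable def gv (D : Dat) (v : W) : List W := D.reps.map fun r => ρ (P n r) v

/-- the sum over a list of words -/
noncomputable def Op (gens : List (List (ℕ × ℕ))) (ws : List (List ℕ)) : W →ₗ[F] W :=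
  (ws.map fun w => ρ (P n (wd gens w))).sum

theorem Op_nil (gens : List (List (ℕ × ℕ))) : Op ρ gens [] = 0 := rfl

theorem Op_cons (gens : List (List (ℕ × ℕ))) (w : List ℕ) (ws : List (List ℕ)) (v : W) :
    Op ρ gens (w :: ws) v = ρ (P n (wd gens w)) v + Op ρ gens ws v := by
  unfold Op
  rw [List.map_cons, List.sum_cons, LinearMap.add_apply]

variable {ρ}

theorem chk_spec {D : Dat} (h : D.chk m = true) : D.gens.all (vl m) = true ∧ vl m D.zt = true ∧
    D.reps.all (vl m) = true ∧ D.gens.length = D.tab.length ∧ ∀ x ∈ D.gens.zip D.tab, D.reps.length = x.2.length ∧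
      ∀ y ∈ D.reps.zip x.2, y.2.1 < D.reps.length ∧
        cd m (x.1 ++ y.1) = cd m (D.reps.getD y.2.1 [] ++ pwl D.zt y.2.2) := by
  unfold Dat.chk at h
  simp only [Bool.and_eq_true, List.all_eq_true, beq_iff_eq, Nat.beq_eq, Nat.blt_eq] at h
  obtain ⟨⟨⟨⟨h1, h2⟩, h3⟩, h4⟩, h5⟩ := h
  exact ⟨List.all_eq_true.2 h1, h2, List.all_eq_true.2 h3, h4, h5⟩

theorem pow_fix {x : ↥(alternatingGroup (Fin n))} {v : W} (h : ρ x v = v) (k : ℕ) : ρ (x ^ k) v = v := by
  induction k with
  | zero => rw [pow_zero, map_one]; rfl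
  | succ k ih => rw [pow_succ, map_mul, Module.End.mul_apply, h, ih]

/-- the action of a generator -/
theorem gen_spec (hm : m ≤ n) (h2 : ∀ w : W, w + w = 0) {D : Dat} (h : D.chk m = true) {v : W}
    (hv : ρ (P n D.zt) v = v) {i : ℕ} (hi : i < D.gens.length) (a : ℕ) :
    ρ (P n (D.gens.getD i [])) (sumM (gv ρ D v) a) = sumM (gv ρ D v) (stp (D.tab.getD i []) a) := by
  obtain ⟨h1, hz, hr, hl, hx⟩ := chk_spec h
  have hi' : i < D.tab.length := hl ▸ hi
  have hmem : (D.gens.getD i [], D.tab.getD i []) ∈ D.gens.zip D.tab := by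
    rw [List.getD_eq_getElem _ _ hi, List.getD_eq_getElem _ _ hi', ← List.getElem_zip (h := by
      rw [List.length_zip]; omega)]
    exact List.getElem_mem _
  obtain ⟨k1, k2⟩ := hx _ hmem
  refine stp_spec h2 (gv ρ D v) (ρ (P n (D.gens.getD i []))).toAddMonoidHom (gv ρ D v) (D.tab.getD i [])
    (by rw [gv, List.length_map]; exact k1) ?_ a
  intro e he
  rw [gv, List.zip_map_left] at he
  obtain ⟨y, hy, rfl⟩ := List.mem_map.1 he
  obtain ⟨j1, j2⟩ := k2 y hy
  have hy1 : vl m y.1 = true := List.all_eq_true.1 hr _ (List.of_mem_zip hy).1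
  have hgi : vl m (D.gens.getD i []) = true := vl_getD h1 i
  have hrj : vl m (D.reps.getD y.2.1 []) = true := vl_getD hr _
  show ρ (P n (D.gens.getD i [])) (ρ (P n y.1) v) = (gv ρ D v).getD y.2.1 0
  have e1 : (gv ρ D v).getD y.2.1 0 = ρ (P n (D.reps.getD y.2.1 [])) v := by
    rw [gv, List.getD_eq_getElem _ _ (by rw [List.length_map]; exact j1), List.getElem_map, List.getD_eq_getElem _ _ j1]
  rw [e1, ← Module.End.mul_apply, ← map_mul, ← P_append hm hgi hy1,
    (P_eq_iff hm (vl_append hgi hy1) (vl_append hrj (vl_pwl hz _))).2 j2, P_append hm hrj (vl_pwl hz _), map_mul,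
    Module.End.mul_apply, P_pwl hm hz, pow_fix hv]

/-- words in the generators -/
def wok (D : Dat) (ws : List (List ℕ)) : Bool := ws.all fun w => w.all fun i => Nat.blt i D.gens.length

theorem word_spec (hm : m ≤ n) (h2 : ∀ w : W, w + w = 0) {D : Dat} (h : D.chk m = true) {v : W}
    (hv : ρ (P n D.zt) v = v) {w : List ℕ} (hw : (w.all fun i => Nat.blt i D.gens.length) = true) (a : ℕ) :
    ρ (P n (wd D.gens w)) (sumM (gv ρ D v) a) = sumM (gv ρ D v) (stps D.tab w a) := by
  obtain ⟨h1, hz, hr, hl, hx⟩ := chk_spec h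
  induction w with
  | nil =>
    rw [wd_nil, P_nil, map_one]
    rfl
  | cons i w ih =>
    rw [List.all_cons, Bool.and_eq_true, Nat.blt_eq] at hw
    rw [wd_cons, P_append hm (vl_getD h1 i) (vl_wd h1 w), map_mul, Module.End.mul_apply, ih hw.2,
      gen_spec hm h2 h hv hw.1]
    rfl

/-- **evaluation** -/
theorem eval (hm : m ≤ n) (h2 : ∀ w : W, w + w = 0) {D : Dat} (h : D.chk m = true) {v : W}
    (hv : ρ (P n D.zt) v = v) {ws : List (List ℕ)} (hw : wok D ws = true) (a : ℕ) :
    Op ρ D.gens ws (sumM (gv ρ D v) a) = sumM (gv ρ D v) (sms D.tab ws a) := by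
  induction ws with
  | nil =>
    rw [Op_nil, LinearMap.zero_apply]
    exact (sumM_zero _).symm
  | cons w ws ih =>
    unfold wok at hw
    rw [List.all_cons, Bool.and_eq_true] at hw
    rw [Op_cons, word_spec hm h2 h hv hw.1, ih hw.2]
    show _ = sumM (gv ρ D v) (stps D.tab w a ^^^ sms D.tab ws a)
    rw [sumM_xor h2]

/-- the first translate -/
theorem sumM_one {D : Dat} {v : W} {r : List (List (ℕ × ℕ))} (hr : D.reps = [] :: r) : sumM (gv ρ D v) 1 = v := by
  have h := sumM_pow (gv ρ D v) 0
  rw [pow_zero] at h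
  rw [h, gv, hr, List.map_cons, List.getD_cons_zero, P_nil, map_one]
  rfl

end act

end Cfsg.Agent.R2.T1.Msk
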