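import Cfsg.Agent.R2.T1.Odd.Typ

/-!
# S5771, p = 2: the tables of elementary abelian groups of order 9 in `A_9` (helper25)
-/

set_option autoImplicit false
set_option maxRecDepth 100000

namespace Cfsg.Agent.R2.T1.T2p

open Cfsg.Agent.R2.T1.Odd

/-- representatives of the classes: `1`, `3`, `3²` -/
def rE : List (List (ℕ × ℕ)) :=
  [[], [(0, 1), (1, 2)], [(0, 1), (1, 2), (4, 5), (5, 6)]]

def gE1 : List (List (ℕ × ℕ)) :=
  [[(0, 1), (1, 2)], [(3, 4), (4, 5)]]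

def eE1 : List (List ℕ) :=
  [[], [0], [1], [0, 0], [1, 0], [1, 1], [1, 0, 0], [1, 1, 0], [1, 1, 0, 0]]

def dE1 : List (ℕ × List (ℕ × ℕ)) :=
  [(0, []), (1, []), (1, [(0, 3), (3, 1), (1, 4), (2, 5)]), (1, [(1, 2), (3, 4)]), (2, [(3, 7), (7, 6), (6, 5),
   (5, 4)]), (1, [(0, 3), (1, 5), (5, 2), (2, 4)]), (2, [(1, 2), (3, 6), (6, 5), (5, 4)]), (2, [(3, 6), (6, 4)]),
   (2, [(1, 2), (3, 7), (7, 6), (6, 4)])]

def gE2 : List (List (ℕ × ℕ)) :=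
  [[(3, 4), (4, 5)], [(6, 7), (7, 8)]]

def eE2 : List (List ℕ) :=
  [[], [0], [1], [0, 0], [1, 0], [1, 1], [1, 0, 0], [1, 1, 0], [1, 1, 0, 0]]

def dE2 : List (ℕ × List (ℕ × ℕ)) :=
  [(0, []), (1, [(0, 3), (3, 1), (1, 4), (2, 5)]), (1, [(0, 6), (6, 3), (1, 7), (7, 4), (2, 8), (8, 5)]), (1, [(0,
   3), (1, 5), (5, 2), (2, 4)]), (2, [(0, 3), (3, 1), (1, 4), (4, 6), (6, 8), (8, 2), (2, 5), (5, 7)]), (1, [(0,
   6), (6, 3), (3, 1), (1, 8), (8, 5), (5, 2), (2, 7), (7, 4)]), (2, [(0, 3), (1, 5), (5, 7), (2, 4), (4, 6), (6,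
   8)]), (2, [(0, 3), (1, 4), (4, 6), (6, 7), (2, 5), (5, 8)]), (2, [(0, 3), (3, 1), (1, 5), (5, 8), (8, 2), (2,
   4), (4, 6), (6, 7)])]

def gE3 : List (List (ℕ × ℕ)) :=
  [[(0, 1), (1, 2)], [(5, 6), (6, 7)]]

def eE3 : List (List ℕ) :=
  [[], [0], [1], [0, 0], [1, 0], [1, 1], [1, 0, 0], [1, 1, 0], [1, 1, 0, 0]]

def dE3 : List (ℕ × List (ℕ × ℕ)) :=
  [(0, []), (1, []), (1, [(0, 5), (5, 2), (2, 7), (7, 4), (1, 6), (6, 3)]), (1, [(1, 2), (3, 4)]), (2, [(3, 4),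
   (4, 5), (5, 6), (6, 7)]), (1, [(0, 5), (5, 2), (2, 6), (6, 3), (1, 7), (7, 4)]), (2, [(1, 2), (4, 5), (5, 6),
   (6, 7)]), (2, [(4, 5), (5, 7)]), (2, [(1, 2), (3, 4), (4, 5), (5, 7)])]

theorem chkG_E1 : chkG 9 gE1 eE1 = true := by decide +kernel
theorem chkC_E1 : chkC 9 gE1 eE1 [] rE dE1 = true := by decide +kernel
theorem len_E1 : eE1.length = 9 := by decide +kernel
theorem cnt_E1 : (List.range 3).map (fun k => (dE1.map Prod.fst).count k) = [1, 4, 4] := by decide +kernel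

theorem chkG_E2 : chkG 9 gE2 eE2 = true := by decide +kernel
theorem chkC_E2 : chkC 9 gE2 eE2 [] rE dE2 = true := by decide +kernel
theorem len_E2 : eE2.length = 9 := by decide +kernel
theorem cnt_E2 : (List.range 3).map (fun k => (dE2.map Prod.fst).count k) = [1, 4, 4] := by decide +kernel

theorem chkG_E3 : chkG 9 gE3 eE3 = true := by decide +kernel
theorem chkC_E3 : chkC 9 gE3 eE3 [] rE dE3 = true := by decide +kernel
theorem len_E3 : eE3.length = 9 := by decide +kernel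
theorem cnt_E3 : (List.range 3).map (fun k => (dE3.map Prod.fst).count k) = [1, 4, 4] := by decide +kernel

end Cfsg.Agent.R2.T1.T2p
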