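import Cfsg.Agent.R2.T1.T2p.Msk

/-!
# T1 (S5771, p = 2): certificates (helper25)

* `DK` : `L₂(8)` modulo a subgroup of order 9; `cK` : `e₉ e₇ v = v`;
* `Db` : `A₅` modulo `⟨(012)⟩`; `c1`, `c2`, `c2'`;
* `Dt` : `A₅` modulo `⟨(01)(34)⟩`; `c3`.
-/

set_option autoImplicit false
set_option maxRecDepth 100000

namespace Cfsg.Agent.R2.T1.Msk

open Cfsg.Agent.R2.T1.Odd

/-- `L₂(8)` -/
def DK : Dat where
  gens := [[(0, 1), (1, 2), (2, 3), (3, 4), (4, 5), (5, 6)], [(0, 1), (1, 2), (2, 4), (4, 3), (3, 8), (8, 7), (7, 6), (6,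
    5)]]
  zt := [(0, 1), (1, 2), (2, 4), (4, 3), (3, 8), (8, 7), (7, 6), (6, 5)]
  reps := [[], [(0, 1), (1, 2), (2, 3), (3, 4), (4, 5), (5, 6)], [(0, 2), (2, 4), (4, 6), (6, 1), (1, 3), (3, 5)], [(0, 2),
    (2, 8), (8, 7), (7, 6), (6, 1), (1, 4)], [(0, 3), (3, 6), (6, 2), (2, 5), (5, 1), (1, 4)], [(0, 3), (3, 4), (4,
    1), (1, 5), (5, 6), (6, 2), (2, 8), (8, 7)], [(0, 4), (4, 5), (5, 1), (1, 8), (8, 7), (7, 6), (6, 2), (2, 3)],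
    [(0, 4), (4, 1), (1, 3), (3, 8), (8, 6), (6, 2), (2, 7), (7, 5)], [(0, 4), (4, 1), (1, 5), (5, 2), (2, 6), (6,
    3)], [(0, 4), (4, 2), (2, 8), (8, 7), (7, 1), (1, 6), (6, 3), (3, 5)], [(0, 5), (5, 2), (2, 4), (4, 6), (6, 3),
    (3, 1), (1, 8), (8, 7)], [(0, 5), (5, 1), (1, 4), (4, 2), (2, 7), (7, 6), (6, 3), (3, 8)], [(0, 8), (8, 7), (7,
    6), (6, 4), (4, 1), (1, 3), (3, 5), (5, 2)], [(0, 8), (8, 6), (6, 4), (4, 2), (2, 7), (7, 1)], [(0, 3), (3, 1),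
    (1, 7), (7, 5), (5, 2), (2, 8), (8, 6), (6, 4)], [(0, 3), (3, 7), (1, 8), (8, 5), (2, 6), (6, 4)], [(0, 5), (5,
    3), (3, 1), (1, 6), (6, 4), (4, 2)], [(0, 5), (5, 1), (2, 8), (8, 7), (3, 6), (6, 4)], [(0, 6), (6, 4), (1, 8),
    (8, 7), (2, 5), (5, 3)], [(0, 6), (6, 4), (4, 3), (3, 8), (8, 1), (1, 5), (5, 2), (2, 7)], [(0, 8), (8, 7), (1,
    4), (4, 2), (3, 6), (6, 5)], [(0, 8), (2, 7), (3, 4), (5, 6)], [(0, 4), (4, 1), (1, 7), (7, 6), (6, 5), (5, 3),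
    (3, 2), (2, 8)], [(0, 3), (3, 1), (2, 5), (5, 4), (6, 8), (8, 7)], [(0, 3), (1, 5), (2, 7), (6, 8)], [(1, 7), (2,
    3), (4, 5), (6, 8)], [(1, 3), (3, 7), (7, 5), (5, 2), (2, 6), (6, 8)], [(0, 7), (7, 2), (2, 6), (6, 3), (3, 8),
    (8, 5)], [(0, 8), (8, 5), (5, 4), (4, 1), (1, 6), (6, 3), (3, 2), (2, 7)], [(0, 8), (1, 7), (2, 5), (3, 6)], [(1,
    8), (8, 7), (7, 2), (2, 6), (6, 5), (5, 4)], [(1, 6), (6, 5), (5, 3), (3, 8), (8, 2), (2, 7)], [(0, 8), (8, 1),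
    (1, 2), (2, 7), (7, 3), (3, 5)], [(0, 5), (5, 4), (4, 2), (2, 8), (8, 1), (1, 7)], [(0, 4), (4, 3), (3, 2), (2,
    6), (6, 8), (8, 7)], [(0, 4), (4, 5), (5, 2), (2, 7), (7, 3), (3, 1), (1, 6), (6, 8)], [(0, 1), (1, 7), (7, 2),
    (2, 4), (4, 6), (6, 8)], [(0, 1), (1, 4), (4, 5), (5, 3), (3, 7), (7, 6), (6, 8), (8, 2)], [(0, 7), (7, 3), (3,
    8), (8, 6), (6, 4), (4, 5), (5, 1), (1, 2)], [(1, 5), (5, 8), (8, 7), (7, 6), (6, 3), (3, 2)], [(2, 7), (7, 4),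
    (4, 8), (8, 6), (6, 3), (3, 5)], [(0, 5), (5, 8), (8, 6), (6, 3), (3, 4), (4, 1), (1, 7), (7, 2)], [(0, 1), (1,
    6), (6, 7), (7, 2), (2, 8), (8, 5), (5, 3), (3, 4)], [(0, 1), (1, 8), (8, 2), (2, 5), (5, 4), (4, 3), (3, 6), (6,
    7)], [(0, 6), (6, 8), (1, 2), (2, 5), (3, 7), (7, 4)], [(0, 7), (7, 1), (1, 5), (5, 3), (3, 4), (4, 2), (2, 6),
    (6, 8)], [(0, 7), (7, 2), (1, 6), (6, 8), (3, 5), (5, 4)], [(0, 1), (1, 8), (8, 7), (7, 3), (3, 4), (4, 2)], [(0,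
    1), (2, 7), (3, 8), (4, 5)], [(0, 6), (1, 7), (2, 8), (3, 4)], [(0, 2), (2, 1), (1, 5), (5, 4), (4, 6), (6, 8),
    (8, 3), (3, 7)], [(0, 1), (1, 2), (2, 7), (7, 5), (5, 3), (3, 6), (6, 4), (4, 8)], [(0, 2), (2, 8), (8, 6), (6,
    7), (7, 3), (3, 5), (5, 4), (4, 1)], [(0, 2), (2, 6), (6, 7), (7, 1), (1, 8), (8, 3)], [(1, 7), (7, 2), (2, 8),
    (8, 3), (3, 5), (5, 6)], [(0, 3), (3, 6), (6, 7), (7, 4), (4, 2), (2, 8)]]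
  tab := [[(1, 0), (2, 0), (4, 0), (5, 0), (8, 0), (9, 0), (10, 0), (11, 0), (16, 0), (17, 0), (18, 0), (19, 0), (20, 0),
    (21, 0), (22, 0), (3, 1), (29, 4), (25, 5), (30, 0), (31, 0), (27, 4), (32, 0), (33, 0), (34, 0), (35, 0), (36,
    0), (37, 0), (38, 0), (13, 0), (0, 5), (47, 0), (48, 0), (45, 7), (49, 0), (7, 6), (6, 3), (15, 3), (50, 0), (42,
    7), (44, 8), (51, 0), (28, 1), (52, 0), (53, 0), (26, 0), (46, 0), (41, 1), (24, 6), (23, 3), (54, 0), (43, 3),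
    (14, 8), (55, 0), (39, 7), (40, 1), (12, 7)], [(0, 1), (3, 0), (6, 0), (7, 0), (12, 0), (13, 0), (14, 0), (15,
    0), (23, 0), (24, 0), (25, 0), (26, 0), (22, 1), (27, 0), (28, 0), (29, 0), (39, 0), (40, 0), (41, 0), (4, 2),
    (8, 6), (37, 4), (17, 3), (19, 4), (11, 4), (42, 0), (43, 0), (44, 0), (45, 0), (46, 0), (53, 6), (52, 3), (36,
    1), (31, 0), (10, 7), (16, 8), (5, 7), (33, 3), (48, 7), (2, 7), (20, 2), (1, 7), (9, 3), (34, 4), (30, 7), (51,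
    4), (47, 7), (18, 4), (54, 6), (49, 8), (21, 4), (35, 8), (38, 7), (55, 6), (50, 2), (32, 0)]]

theorem chkK : DK.chk 9 = true := by decide +kernel

/-- the sum over the subgroup of order 7 -/
def e7 : List (List ℕ) := [[], [0], [0, 0], [0, 0, 0], [0, 0, 0, 0], [0, 0, 0, 0, 0], [0, 0, 0, 0, 0, 0]]

/-- the sum over the subgroup of order 9 -/
def e9 : List (List ℕ) := [[], [1], [1, 1], [1, 1, 1], [1, 1, 1, 1], [1, 1, 1, 1, 1], [1, 1, 1, 1, 1, 1], [1, 1, 1, 1, 1, 1, 1], [1, 1, 1,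
    1, 1, 1, 1, 1]]

theorem cK : sms DK.tab e9 (sms DK.tab e7 1) = 1 := by decide +kernel

/-- `A₅` modulo `⟨(012)⟩` -/
def Db : Dat where
  gens := [[(0, 1), (1, 2)], [(0, 1), (1, 2), (2, 3), (3, 4)]]
  zt := [(0, 1), (1, 2)]
  reps := [[], [(0, 1), (1, 2), (2, 3), (3, 4)], [(0, 2), (2, 3), (3, 4), (4, 1)], [(0, 2), (2, 4), (4, 1), (1, 3)], [(2,
    3), (3, 4)], [(1, 3), (2, 4)], [(0, 3), (2, 4)], [(0, 1), (1, 3), (3, 2), (2, 4)], [(0, 3), (3, 1), (1, 2), (2,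
    4)], [(0, 1), (1, 2), (2, 4), (4, 3)], [(0, 1), (1, 4), (4, 3), (3, 2)], [(0, 4), (4, 3), (3, 1), (1, 2)], [(0,
    3), (3, 2), (2, 4), (4, 1)], [(0, 2), (1, 4)], [(0, 2), (1, 3)], [(1, 3), (3, 2)], [(0, 1), (1, 3)], [(0, 4), (4,
    2)], [(0, 1), (1, 4)], [(1, 2), (3, 4)]]
  tab := [[(0, 1), (2, 0), (4, 0), (5, 0), (1, 0), (7, 0), (8, 0), (3, 0), (12, 0), (11, 1), (9, 1), (10, 1), (6, 0), (17,
    2), (15, 0), (16, 0), (14, 0), (18, 1), (13, 0), (19, 2)], [(1, 0), (3, 0), (6, 0), (5, 1), (9, 0), (10, 0), (11,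
    0), (13, 0), (12, 2), (14, 0), (0, 2), (15, 0), (17, 0), (4, 2), (7, 1), (18, 0), (8, 1), (19, 0), (2, 0), (16,
    0)]]

theorem chkb : Db.chk 5 = true := by decide +kernel

/-- the sum of the elements of order 3 and 5 -/
def ee : List (List ℕ) := [[0], [1], [0, 0], [0, 1], [1, 0], [1, 1], [0, 0, 1], [0, 1, 0], [1, 0, 0], [1, 1, 1], [0, 0, 1, 0], [0, 0, 1,
    1], [0, 1, 0, 0], [0, 1, 0, 1], [0, 1, 1, 1], [1, 0, 0, 1], [1, 0, 1, 0], [1, 0, 1, 1], [1, 1, 0, 0], [1, 1, 0,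
    1], [1, 1, 1, 0], [1, 1, 1, 1], [0, 0, 1, 0, 0], [0, 0, 1, 0, 1], [0, 1, 0, 1, 0], [0, 1, 1, 1, 1], [1, 0, 0, 1,
    0], [1, 0, 1, 0, 0], [1, 0, 1, 0, 1], [1, 0, 1, 1, 1], [1, 1, 0, 1, 0], [1, 1, 1, 0, 1], [1, 1, 1, 1, 0], [0, 1,
    1, 1, 0, 1], [1, 0, 0, 1, 0, 1], [1, 0, 1, 1, 1, 0], [1, 0, 1, 1, 1, 1], [1, 1, 0, 0, 1, 0], [1, 1, 0, 1, 0, 0],
    [1, 1, 0, 1, 0, 1], [1, 1, 1, 0, 1, 0], [1, 1, 1, 1, 0, 1], [0, 1, 1, 1, 0, 1, 0, 0], [1, 1, 1, 1, 0, 1, 0, 0]]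

/-- the sum over `⟨(012)⟩` -/
def e3 : List (List ℕ) := [[], [0], [0, 0]]

/-- the sum over `⟨(01234)⟩` -/
def e5 : List (List ℕ) := [[], [1], [1, 1], [1, 1, 1], [1, 1, 1, 1]]

/-- `e₃ e₅ v = v + ε v` -/
theorem c1 : sms Db.tab e3 (sms Db.tab e5 1) = Nat.xor 1 (sms Db.tab ee 1) := by decide +kernel

/-- the mask of `(1 + e₃) x² ε v` -/
def m2 : ℕ := Nat.xor (sms Db.tab [[1, 1]] (sms Db.tab ee 1)) (sms Db.tab e3 (sms Db.tab [[1, 1]] (sms Db.tab ee 1)))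

def h2 : List (List ℕ) := [[], [1], [0, 1], [1, 1, 0]]

theorem c2 : sms Db.tab h2 m2 = sms Db.tab ee 1 := by decide +kernel

theorem c2' : sms Db.tab ee m2 = m2 := by decide +kernel

/-- `A₅` modulo `⟨(01)(34)⟩` -/
def Dt : Dat where
  gens := [[(0, 1), (1, 2)], [(0, 1), (1, 2), (2, 3), (3, 4)]]
  zt := [(0, 1), (3, 4)]
  reps := [[], [(0, 1), (1, 2)], [(0, 1), (1, 2), (2, 3), (3, 4)], [(0, 2), (2, 1)], [(0, 2), (2, 3), (3, 4), (4, 1)], [(0,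
    2), (2, 1), (1, 3), (3, 4)], [(0, 2), (2, 4), (4, 1), (1, 3)], [(2, 3), (3, 4)], [(1, 3), (3, 4)], [(1, 3), (2,
    4)], [(0, 3), (3, 4)], [(0, 3), (2, 4)], [(0, 3), (1, 4)], [(0, 3), (3, 1), (1, 4), (4, 2)], [(0, 1), (1, 3), (3,
    4), (4, 2)], [(0, 3), (3, 4), (4, 1), (1, 2)], [(0, 3), (3, 2), (2, 1), (1, 4)], [(0, 1), (1, 2), (2, 4), (4,
    3)], [(0, 1), (1, 4), (4, 2), (2, 3)], [(0, 1), (1, 4), (4, 3), (3, 2)], [(0, 4), (4, 1), (1, 2), (2, 3)], [(0,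
    4), (4, 3), (3, 1), (1, 2)], [(0, 4), (4, 2), (2, 3), (3, 1)], [(0, 4), (4, 3), (3, 2), (2, 1)], [(0, 3), (3, 4),
    (4, 2), (2, 1)], [(0, 4), (4, 3)], [(0, 2), (2, 1), (1, 4), (4, 3)], [(0, 4), (4, 1)], [(0, 2), (2, 4), (4, 3),
    (3, 1)], [(2, 4), (4, 3)]]
  tab := [[(1, 0), (3, 0), (4, 0), (0, 0), (7, 0), (8, 0), (9, 0), (2, 0), (14, 0), (11, 1), (15, 0), (6, 1), (13, 0),
    (16, 0), (5, 0), (24, 0), (12, 0), (28, 0), (20, 1), (26, 0), (22, 0), (23, 0), (18, 1), (25, 0), (10, 0), (21,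
    0), (27, 1), (19, 1), (29, 0), (17, 0)], [(2, 0), (5, 0), (6, 0), (10, 0), (11, 0), (12, 0), (13, 0), (17, 0),
    (18, 0), (19, 0), (20, 0), (21, 0), (22, 0), (23, 0), (26, 0), (16, 1), (27, 0), (15, 1), (28, 0), (3, 0), (9,
    0), (24, 1), (29, 0), (0, 0), (25, 0), (4, 1), (8, 1), (7, 0), (14, 1), (1, 0)]]

theorem chkt : Dt.chk 5 = true := by decide +kernel

def ha : List (List ℕ) := [[], [1], [1, 0], [0, 1], [1, 0, 0], [0, 1, 0], [0, 0, 1], [0, 1, 0, 0]]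

def hb : List (List ℕ) := [[], [0, 0, 1]]

/-- `(234)` -/
def wd3 : List ℕ := [0, 0, 1]

/-- `v + (234) v = ha (v + ε v) + hb (e₃ v)` -/
theorem c3 : Nat.xor 1 (stps Dt.tab wd3 1) =
    Nat.xor (sms Dt.tab ha (Nat.xor 1 (sms Dt.tab ee 1))) (sms Dt.tab hb (sms Dt.tab e3 1)) := by decide +kernel

theorem cd_wd3 : cd 5 (wd Dt.gens wd3) = cd 5 [(2, 3), (3, 4)] := by decide

end Cfsg.Agent.R2.T1.Msk
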